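import Groth.Agent.DVRDom.Birational
import Groth.Agent.LimSch.ClosureRange

/-!
# Valuative criteria tested at a dense set of points
-/

set_option autoImplicit false
set_option linter.style.haveILetI false
set_option backward.isDefEq.respectTransparency false
set_option backward.isDefEq.respectTransparency.types false

universe u

namespace Groth.Agent.ValDense

open CategoryTheory CategoryTheory.Limits AlgebraicGeometry IsLocalRing
open Groth.Agent.DVRDom (composite)

variable {X Y Z : Scheme.{u}}

/-- Refined uniqueness criterion along `h`. -/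
def UniqueAlong (h : Z ⟶ Y) (f : Y ⟶ X) : Prop :=
  ∀ (z : Z) (R : ValuationSubring (Z.residueField z)) (l₁ l₂ : Spec (CommRingCat.of R) ⟶ Y),
    l₁ ≫ f = l₂ ≫ f →
    Spec.map (CommRingCat.ofHom R.subtype) ≫ l₁ = Z.fromSpecResidueField z ≫ h →
    Spec.map (CommRingCat.ofHom R.subtype) ≫ l₂ = Z.fromSpecResidueField z ≫ h → l₁ = l₂

/-- Refined existence criterion along `h`. -/
def ExistAlong (h : Z ⟶ Y) (f : Y ⟶ X) : Prop :=
  ∀ (z : Z) (R : ValuationSubring (Z.residueField z)) (φ : Spec (CommRingCat.of R) ⟶ X),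
    Spec.map (CommRingCat.ofHom R.subtype) ≫ φ = Z.fromSpecResidueField z ≫ h ≫ f →
    ∃ l : Spec (CommRingCat.of R) ⟶ Y,
      Spec.map (CommRingCat.ofHom R.subtype) ≫ l = Z.fromSpecResidueField z ≫ h ∧ l ≫ f = φ

/-- Points in the closure of the image of a quasi-compact dominant map. -/
lemma exists_specializes_range (h : Z ⟶ Y) [QuasiCompact h] (hd : DenseRange h.base) (y : Y) :
    ∃ z : Z, h z ⤳ y :=
  Groth.Agent.LimSch.exists_specializes_of_mem_closure_range h (hd y)

/-- The map to the residue field of `z` from the local ring at a specialization of its image. -/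
noncomputable def toResidue (h : Z ⟶ Y) {z : Z} {y : Y} (hy : h z ⤳ y) :
    Y.presheaf.stalk y ⟶ Z.residueField z :=
  Y.presheaf.stalkSpecializes hy ≫ h.stalkMap z ≫ Z.residue z

lemma specMap_toResidue (h : Z ⟶ Y) {z : Z} {y : Y} (hy : h z ⤳ y) :
    Spec.map (toResidue h hy) ≫ Y.fromSpecStalk y = Z.fromSpecResidueField z ≫ h := by
  simp only [toResidue, Spec.map_comp, Category.assoc, Scheme.SpecMap_stalkSpecializes_fromSpecStalk,
    Scheme.SpecMap_stalkMap_fromSpecStalk, Scheme.fromSpecResidueField]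

lemma closedPoint_specMap {A : Scheme.{u}} {a : A} {B : Type u} [CommRing B] [IsLocalRing B]
    (α : A.presheaf.stalk a →+* B) [IsLocalHom α] :
    (Spec.map (CommRingCat.ofHom α) ≫ A.fromSpecStalk a) (closedPoint B) = a :=
  (Scheme.Hom.comp_apply _ _ _).trans
    ((congrArg _ (IsLocalRing.comap_closedPoint α)).trans A.fromSpecStalk_closedPoint)

/-- A valuation ring of `κ(z)` centred at a given specialization. -/
lemma exists_centred (h : Z ⟶ Y) {z : Z} {y : Y} (hy : h z ⤳ y) :
    ∃ (R : ValuationSubring (Z.residueField z)) (g : Spec (CommRingCat.of R) ⟶ Y),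
      Spec.map (CommRingCat.ofHom R.subtype) ≫ g = Z.fromSpecResidueField z ≫ h ∧
      g (closedPoint R) = y := by
  obtain ⟨R, hR, hloc⟩ := IsLocalRing.exists_factor_valuationRing (toResidue h hy).hom
  let α : Y.presheaf.stalk y →+* R := (toResidue h hy).hom.codRestrict R.toSubring hR
  refine ⟨R, Spec.map (CommRingCat.ofHom α) ≫ Y.fromSpecStalk y, ?_, ?_⟩
  · rw [← Spec.map_comp_assoc, show CommRingCat.ofHom α ≫ CommRingCat.ofHom R.subtype = toResidue h hy from rfl,
      specMap_toResidue]
  · have : IsLocalHom α := hloc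
    exact closedPoint_specMap α

/-- Uniqueness along a dense subset gives separatedness. -/
theorem isSeparated_of_uniqueAlong (h : Z ⟶ Y) (f : Y ⟶ X) [QuasiCompact h] [QuasiSeparated f]
    (hd : DenseRange h.base) (H : UniqueAlong h f) : IsSeparated f := by
  let d := pullback.diagonal f
  suffices hcl : IsClosed (Set.range d) from ⟨.of_isPreimmersion _ hcl⟩
  refine isClosed_of_closure_subset fun p hp => ?_
  obtain ⟨w, hw⟩ := Groth.Agent.LimSch.exists_specializes_of_mem_closure_range d hp
  obtain ⟨z, hz⟩ := exists_specializes_range h hd w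
  have hsp : (h ≫ d) z ⤳ p := by
    rw [Scheme.Hom.comp_apply]
    exact (hz.map d.continuous).trans hw
  obtain ⟨R, g, hg, hgp⟩ := exists_centred (h ≫ d) hsp
  have heq := H z R (g ≫ pullback.fst f f) (g ≫ pullback.snd f f) (by simp [pullback.condition])
    (by rw [reassoc_of% hg, pullback.diagonal_fst, Category.comp_id])
    (by rw [reassoc_of% hg, pullback.diagonal_snd, Category.comp_id])
  have hgd : g = (g ≫ pullback.fst f f) ≫ pullback.diagonal f := by
    apply pullback.hom_ext
    · simp
    · simp [heq]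
  refine ⟨(g ≫ pullback.fst f f) (closedPoint R), ?_⟩
  rw [← Scheme.Hom.comp_apply, ← hgd, hgp]

theorem uniqueAlong_of_isSeparated (h : Z ⟶ Y) (f : Y ⟶ X) [IsSeparated f] : UniqueAlong h f := by
  intro z R l₁ l₂ e h₁ h₂
  have := IsSeparated.valuativeCriterion f
    ⟨R, Z.residueField z, Z.fromSpecResidueField z ≫ h, l₁ ≫ f, ⟨by rw [← h₁]; exact Category.assoc _ _ _⟩⟩
  exact congrArg CommSq.LiftStruct.l (this.elim ⟨l₁, h₁, rfl⟩ ⟨l₂, h₂, e.symm⟩)

theorem existAlong_of_existence (h : Z ⟶ Y) (f : Y ⟶ X) (H : ValuativeCriterion.Existence f) :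
    ExistAlong h f := by
  intro z R φ hφ
  obtain ⟨⟨l⟩⟩ := H ⟨R, Z.residueField z, Z.fromSpecResidueField z ≫ h, φ,
    ⟨by rw [Category.assoc]; exact hφ.symm⟩⟩
  exact ⟨l.l, l.fac_left, l.fac_right⟩

/-- Existence and uniqueness along a dense subset give existence. -/
theorem existence_of_existAlong (h : Z ⟶ Y) (f : Y ⟶ X) [QuasiCompact h] (hd : DenseRange h.base)
    (H : ExistAlong h f) (U : UniqueAlong h f) : ValuativeCriterion.Existence f := by
  rintro ⟨R, K, i₁, i₂, ⟨w⟩⟩
  let pt : Spec (CommRingCat.of K) := closedPoint K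
  let x := i₁ pt
  let φ : Y.residueField x ⟶ CommRingCat.of K := Y.descResidueField (Scheme.stalkClosedPointTo i₁)
  have hi₁ : Spec.map φ ≫ Y.fromSpecResidueField x = i₁ :=
    Y.descResidueField_stalkClosedPointTo_fromSpecResidueField K i₁
  -- the valuation ring induced on the residue field
  let RK : ValuationSubring K :=
    ⟨(algebraMap R K).range, ValuationRing.isInteger_or_isInteger R⟩
  let A₀ : ValuationSubring (Y.residueField x) := RK.comap φ.hom
  have hA₀loc : ∀ t ∈ A₀, t⁻¹ ∈ A₀ ∨ ∃ h : t ∈ A₀, (⟨t, h⟩ : A₀) ∈ maximalIdeal A₀ := by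
    intro t ht
    by_cases hu : IsUnit (⟨t, ht⟩ : A₀)
    · obtain ⟨v, hv⟩ := hu
      left
      have h1 : (((v⁻¹ : A₀ˣ) : A₀) : Y.residueField x) = t⁻¹ := by
        apply eq_inv_of_mul_eq_one_left
        have := congrArg Subtype.val v.inv_mul
        rw [hv] at this
        exact this
      exact h1 ▸ Subtype.prop _
    · exact Or.inr ⟨ht, (mem_maximalIdeal _).mpr hu⟩
  -- a valuation ring `W` of `κ(z)` dominating the local ring at `x`
  obtain ⟨z, hξ⟩ := exists_specializes_range h hd x
  obtain ⟨W, hW, hWloc⟩ := IsLocalRing.exists_factor_valuationRing (toResidue h hξ).hom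
  let αW : Y.presheaf.stalk x →+* W := (toResidue h hξ).hom.codRestrict W.toSubring hW
  have : IsLocalHom αW := hWloc
  let j : Y.residueField x →+* ResidueField W := ResidueField.map αW
  obtain ⟨A', hA', hA'loc⟩ := IsLocalRing.exists_factor_valuationRing (j.comp A₀.subtype)
  -- `A'` induces `A₀`
  have hind : ∀ t : Y.residueField x, j t ∈ A' → t ∈ A₀ := by
    intro t ht
    by_contra ht0
    have hinv : t⁻¹ ∈ A₀ := (A₀.mem_or_inv_mem t).resolve_left ht0
    rcases hA₀loc _ hinv with h1 | ⟨h1, hm⟩
    · exact ht0 (inv_inv t ▸ h1)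
    · apply (mem_maximalIdeal _).mp hm
      refine IsUnit.of_map ((j.comp A₀.subtype).codRestrict A'.toSubring hA') _ ?_
      have ht' : t ≠ 0 := fun h0 => ht0 (h0 ▸ A₀.zero_mem)
      exact IsUnit.of_mul_eq_one ⟨j t, ht⟩ (Subtype.ext (by
        change j t⁻¹ * j t = 1
        rw [← map_mul, inv_mul_cancel₀ ht', map_one]))
  let V := composite W A'
  have hVW : ∀ a, a ∈ V → a ∈ W := fun a ha => ha.1
  let y' := i₂ (closedPoint R)
  have hspy : f x ⤳ y' := by
    have h1 := congrArg (fun q => q pt) w
    simp only [Scheme.Hom.comp_apply] at h1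
    show f (i₁ pt) ⤳ y'
    rw [h1]
    exact (IsLocalRing.specializes_closedPoint _).map i₂.continuous
  let β := Scheme.stalkClosedPointTo i₂
  have hβ : β ≫ CommRingCat.ofHom (algebraMap R K) =
      X.presheaf.stalkSpecializes hspy ≫ f.stalkMap x ≫ Y.residue x ≫ φ := by
    apply Spec.map_injective
    rw [← cancel_mono (X.fromSpecStalk y'), Spec.map_comp, Category.assoc,
      Scheme.Spec_stalkClosedPointTo_fromSpecStalk, ← w]
    conv_lhs => rw [← hi₁]
    simp only [Spec.map_comp, Category.assoc, Scheme.SpecMap_stalkSpecializes_fromSpecStalk,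
      Scheme.SpecMap_stalkMap_fromSpecStalk, Scheme.fromSpecResidueField]
  let pre := X.presheaf.stalkSpecializes hspy ≫ f.stalkMap x
  have hres : ∀ a, Y.residue x (pre.hom a) ∈ A₀ := fun a =>
    ⟨β.hom a, congrArg (fun q => q.hom a) hβ⟩
  have hmemV : ∀ a : X.presheaf.stalk y', (pre ≫ toResidue h hξ).hom a ∈ V :=
    fun a => ⟨hW (pre.hom a), hA' ⟨_, hres a⟩⟩
  let γ : X.presheaf.stalk y' →+* V := (pre ≫ toResidue h hξ).hom.codRestrict V.toSubring hmemV
  have hpre : Spec.map pre ≫ X.fromSpecStalk y' = Y.fromSpecStalk x ≫ f := by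
    simp only [pre, Spec.map_comp, Category.assoc, Scheme.SpecMap_stalkSpecializes_fromSpecStalk,
      Scheme.SpecMap_stalkMap_fromSpecStalk]
  have hφV : Spec.map (CommRingCat.ofHom V.subtype) ≫ Spec.map (CommRingCat.ofHom γ) ≫ X.fromSpecStalk y' =
      Z.fromSpecResidueField z ≫ h ≫ f := by
    rw [← Spec.map_comp_assoc, show CommRingCat.ofHom γ ≫ CommRingCat.ofHom V.subtype = pre ≫ toResidue h hξ from rfl,
      Spec.map_comp, Category.assoc, hpre, reassoc_of% (specMap_toResidue h hξ)]
  obtain ⟨l, hl, hlf⟩ := H z V _ hφV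
  -- the center of `V` is a specialization of `x`
  let ι₀ : V →+* W := V.subtype.codRestrict W.toSubring fun a => hVW a a.2
  let ι : Spec (CommRingCat.of W) ⟶ Spec (CommRingCat.of V) := Spec.map (CommRingCat.ofHom ι₀)
  have hιl : ι ≫ l = Spec.map (CommRingCat.ofHom αW) ≫ Y.fromSpecStalk x := by
    refine U z W _ _ ?_ ?_ ?_
    · rw [Category.assoc, Category.assoc, hlf, ← hpre, ← Spec.map_comp_assoc, ← Spec.map_comp_assoc]
      rfl
    · rw [← Spec.map_comp_assoc]
      exact hl
    · rw [← Spec.map_comp_assoc]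
      exact specMap_toResidue h hξ
  let x' := l (closedPoint V)
  have hxx' : x ⤳ x' := by
    have h1 : l (ι (closedPoint W)) = x := ((Scheme.Hom.comp_apply _ _ _).symm.trans
      (congrArg (fun q => q (closedPoint W)) hιl)).trans (closedPoint_specMap αW)
    show x ⤳ l (closedPoint V)
    rw [← h1]
    exact (IsLocalRing.specializes_closedPoint _).map l.continuous
  have hzx' : h z ⤳ x' := hξ.trans hxx'
  let α := Scheme.stalkClosedPointTo l
  have hα : α ≫ CommRingCat.ofHom V.subtype = toResidue h hzx' := by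
    apply Spec.map_injective
    rw [← cancel_mono (Y.fromSpecStalk x'), Spec.map_comp, Category.assoc,
      Scheme.Spec_stalkClosedPointTo_fromSpecStalk, hl, specMap_toResidue]
  have hmemA₀ : ∀ a : Y.presheaf.stalk x',
      φ.hom ((Y.presheaf.stalkSpecializes hxx' ≫ Y.residue x).hom a) ∈ (algebraMap R K).range := by
    intro a
    apply hind
    have h1 : ((α.hom a : V) : Z.residueField z) =
        (toResidue h hξ).hom ((Y.presheaf.stalkSpecializes hxx').hom a) := by
      have := congrArg (fun q => q.hom a) hα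
      refine Eq.trans this ?_
      simp only [toResidue]
      rw [← TopCat.Presheaf.stalkSpecializes_comp _ hξ hxx']
      rfl
    obtain ⟨h', hh⟩ := (α.hom a).2
    have h2 : (⟨((α.hom a : V) : Z.residueField z), h'⟩ : W) =
        αW ((Y.presheaf.stalkSpecializes hxx').hom a) := Subtype.ext h1
    rw [h2] at hh
    exact hh
  let e : R ≃+* (algebraMap R K).range :=
    RingEquiv.ofBijective (algebraMap R K).rangeRestrict
      ⟨fun _ _ h => IsFractionRing.injective R K (congrArg Subtype.val h),
        (algebraMap R K).rangeRestrict_surjective⟩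
  let lamR : Y.presheaf.stalk x' →+* R :=
    e.symm.toRingHom.comp
      (((Y.presheaf.stalkSpecializes hxx' ≫ Y.residue x ≫ φ).hom).codRestrict _ hmemA₀)
  have hlamR : CommRingCat.ofHom lamR ≫ CommRingCat.ofHom (algebraMap R K) =
      Y.presheaf.stalkSpecializes hxx' ≫ Y.residue x ≫ φ := by
    refine CommRingCat.hom_ext (RingHom.ext fun a => ?_)
    exact congrArg Subtype.val (e.apply_symm_apply
      ((((Y.presheaf.stalkSpecializes hxx' ≫ Y.residue x ≫ φ).hom).codRestrict _ hmemA₀) a))
  have hfac : Spec.map (CommRingCat.ofHom (algebraMap R K)) ≫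
      (Spec.map (CommRingCat.ofHom lamR) ≫ Y.fromSpecStalk x') = i₁ := by
    rw [← Spec.map_comp_assoc, hlamR]
    simp only [Spec.map_comp, Category.assoc, Scheme.SpecMap_stalkSpecializes_fromSpecStalk]
    exact hi₁
  -- `x'` lies over the closed point of `R`
  have hloc : IsLocalHom γ := ⟨fun a ha => by
    obtain ⟨c, hc⟩ := ha.exists_right_inv
    have hc' : (toResidue h hξ).hom (pre.hom a) * (c : Z.residueField z) = 1 := congrArg Subtype.val hc
    obtain ⟨hcW, hcA⟩ := c.2
    have hone : j (Y.residue x (pre.hom a)) * residue W ⟨_, hcW⟩ = 1 := by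
      refine (map_mul (residue W) (αW (pre.hom a)) ⟨_, hcW⟩).symm.trans ?_
      rw [show αW (pre.hom a) * ⟨_, hcW⟩ = (1 : W) from Subtype.ext hc', map_one]
    have hmem : (Y.residue x (pre.hom a))⁻¹ ∈ A₀ := by
      apply hind
      rw [map_inv₀, inv_eq_of_mul_eq_one_right hone]
      exact hcA
    obtain ⟨r, hr⟩ := hmem
    have hne : Y.residue x (pre.hom a) ≠ 0 := fun h0 => by
      rw [h0, map_zero, zero_mul] at hone
      exact zero_ne_one hone
    have hu : IsUnit (β.hom a) := by
      refine IsUnit.of_mul_eq_one r (IsFractionRing.injective R K ?_)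
      rw [map_mul, map_one, hr, show algebraMap R K (β.hom a) = φ.hom (Y.residue x (pre.hom a)) from
        congrArg (fun q => q.hom a) hβ, ← map_mul, mul_inv_cancel₀ hne, map_one]
    exact IsUnit.of_map β.hom a hu⟩
  have hfx : f x' = y' := by
    show f (l (closedPoint V)) = y'
    rw [← Scheme.Hom.comp_apply, hlf]
    exact closedPoint_specMap γ
  have heq : (Spec.map (CommRingCat.ofHom lamR) ≫ Y.fromSpecStalk x') ≫ f = i₂ := by
    let s := X.presheaf.stalkSpecializes (Inseparable.of_eq hfx).specializes ≫ f.stalkMap x' ≫ CommRingCat.ofHom lamR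
    have e1 : (Spec.map (CommRingCat.ofHom lamR) ≫ Y.fromSpecStalk x') ≫ f = Spec.map s ≫ X.fromSpecStalk y' := by
      simp only [s, Spec.map_comp, Category.assoc, Scheme.SpecMap_stalkSpecializes_fromSpecStalk,
        Scheme.SpecMap_stalkMap_fromSpecStalk]
    rw [e1, ← Scheme.Spec_stalkClosedPointTo_fromSpecStalk i₂]
    congr 2
    have e2 : s ≫ CommRingCat.ofHom (algebraMap R K) = β ≫ CommRingCat.ofHom (algebraMap R K) := by
      apply Spec.map_injective
      rw [← cancel_mono (X.fromSpecStalk y'), Spec.map_comp, Category.assoc, ← e1,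
        Spec.map_comp, Category.assoc, Category.assoc,
        show Spec.map β ≫ X.fromSpecStalk y' = i₂ from Scheme.Spec_stalkClosedPointTo_fromSpecStalk i₂]
      rw [reassoc_of% hfac, w]
    ext a
    exact IsFractionRing.injective R K (congrArg (fun q => q.hom a) e2)
  exact ⟨⟨⟨_, hfac, heq⟩⟩⟩

theorem universallyClosed_of_along (h : Z ⟶ Y) (f : Y ⟶ X) [QuasiCompact h] [QuasiCompact f]
    (hd : DenseRange h.base) (H : ExistAlong h f) (U : UniqueAlong h f) : UniversallyClosed f :=
  UniversallyClosed.of_valuativeCriterion f (existence_of_existAlong h f hd H U)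

end Groth.Agent.ValDense
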